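import Groth.Agent.OmegaSheaf.Affine
import Mathlib.RingTheory.Kaehler.Polynomial

/-!
# Kähler differentials of an algebra presented as a polynomial ring
-/

set_option autoImplicit false

universe u

namespace Groth.PBundle

theorem bijective_sum_D {B A : Type u} [CommRing B] [CommRing A] [Algebra B A] {K : Type} [Fintype K]
    (ψ : MvPolynomial K B →+* A) (hψ : Function.Bijective ψ)
    (hC : ∀ b, ψ (MvPolynomial.C b) = algebraMap B A b) :
    Function.Bijective fun c : K → A =>
      ∑ i, c i • KaehlerDifferential.D B A (ψ (MvPolynomial.X i)) := by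
  classical
  let eψ := RingEquiv.ofBijective ψ hψ
  obtain ⟨g, hg, hgs, hgD⟩ := Groth.OmegaSheaf.exists_kaehlerEquiv
    (R := B) (S := MvPolynomial K B) (R' := B) (S' := A) (RingEquiv.refl B) eψ hC
  let b := KaehlerDifferential.mvPolynomialBasis B K
  have hb : ∀ i, b i = KaehlerDifferential.D B (MvPolynomial K B) (MvPolynomial.X i) := fun i => by
    apply b.repr.injective
    rw [b.repr_self, KaehlerDifferential.mvPolynomialBasis_repr_D_X]
  have h1 : Function.Bijective fun c : K → MvPolynomial K B => g (∑ i, c i • b i) := by
    have : (fun c : K → MvPolynomial K B => ∑ i, c i • b i) = b.equivFun.symm :=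
      funext fun c => (b.equivFun_symm_apply c).symm
    exact hg.comp (this ▸ b.equivFun.symm.bijective :
      Function.Bijective fun c : K → MvPolynomial K B => ∑ i, c i • b i)
  have key : (fun c : K → A => ∑ i, c i • KaehlerDifferential.D B A (ψ (MvPolynomial.X i))) =
      (fun c : K → MvPolynomial K B => g (∑ i, c i • b i)) ∘ (fun c i => eψ.symm (c i)) := by
    funext c
    simp only [Function.comp_apply, map_sum, hgs, hb, hgD, RingEquiv.apply_symm_apply]
    rfl
  rw [key]
  exact h1.comp (Function.Bijective.piMap fun _ => eψ.symm.bijective)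

end Groth.PBundle
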