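import Groth.Agent.PBundle.Chart
import Groth.Agent.PBundle.Kaehler
import Groth.Agent.OmegaSheaf.Pull
import Groth.Agent.OmegaSheaf.IsoLocal
import Groth.Agent.Ega2Proj.TensorGen
import Groth.Agent.PicAux.TensorLift
import Groth.Agent.QCohMod.Category
import Groth.Agent.QCohMod.Tensor
import Groth.Agent.QCohMod.PullbackQCoh
import Groth.Agent.LocFree.FP

/-!
# The Euler sequence of a projective bundle: `Ω ⊗ O(1) ≅ ker (π^* F → O(1))`
-/

set_option autoImplicit false

universe u

open CategoryTheory CategoryTheory.Limits AlgebraicGeometry Opposite TopologicalSpace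
open Groth.PicAux Groth.RelTw

noncomputable section

namespace Groth.PBundle

variable {S P : Scheme.{u}} {π : P ⟶ S} {F : S.Modules} {O1 : P.Modules}
  {q : (Scheme.Modules.pullback π).obj F ⟶ O1} {Ω : P.Modules} (d : OmegaSh.Der π Ω)
  {V : S.Opens} {m : ℕ} {e : Fin m → Γ(F, V)} (he : Basis' F V e)

theorem der_one (W : P.Opens) : d.app W 1 = 0 := d.d_one (op W)

/-- The coefficients of a section of the inverse image in a basis. -/
def coef {W : P.Opens} (hW : W ≤ π ⁻¹ᵁ V) (n : Γ((Scheme.Modules.pullback π).obj F, W)) :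
    Fin m → Γ(P, W) :=
  ((he.pull π) W hW).2 n |>.choose

theorem sum_coef {W : P.Opens} (hW : W ≤ π ⁻¹ᵁ V) (n : Γ((Scheme.Modules.pullback π).obj F, W)) :
    ∑ i, coef he hW n i • res _ hW (pullSec π F (e i)) = n :=
  (((he.pull π) W hW).2 n).choose_spec

theorem coef_unique {W : P.Opens} (hW : W ≤ π ⁻¹ᵁ V) {n : Γ((Scheme.Modules.pullback π).obj F, W)}
    {c : Fin m → Γ(P, W)} (h : ∑ i, c i • res _ hW (pullSec π F (e i)) = n) : coef he hW n = c :=
  ((he.pull π) W hW).1 ((sum_coef he hW n).trans h.symm)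

variable (q e) in
/-- The images of the basis. -/
def sig {W : P.Opens} (hW : W ≤ π ⁻¹ᵁ V) (i : Fin m) : Γ(O1, W) :=
  res O1 hW ((linData q).app V (e i))

theorem sig_eq {W : P.Opens} (hW : W ≤ π ⁻¹ᵁ V) (i : Fin m) :
    sig q e hW i = q.app W (res _ hW (pullSec π F (e i))) := by
  rw [sig, linData_app, app_res]

variable (q) in
/-- The second fundamental form in a basis. -/
def psi {W : P.Opens} (hW : W ≤ π ⁻¹ᵁ V) (n : Γ((Scheme.Modules.pullback π).obj F, W)) :
    Γ(CohB1.tensorMod Ω O1, W) :=
  ∑ i, tmulSec (d.app W (coef he hW n i)) (sig q e hW i)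

theorem psi_eq {W : P.Opens} (hW : W ≤ π ⁻¹ᵁ V) {n : Γ((Scheme.Modules.pullback π).obj F, W)}
    {c : Fin m → Γ(P, W)} (h : ∑ i, c i • res _ hW (pullSec π F (e i)) = n) :
    psi q d he hW n = ∑ i, tmulSec (d.app W (c i)) (sig q e hW i) := by
  rw [psi, coef_unique he hW h]

theorem q_eq {W : P.Opens} (hW : W ≤ π ⁻¹ᵁ V) {n : Γ((Scheme.Modules.pullback π).obj F, W)}
    {c : Fin m → Γ(P, W)} (h : ∑ i, c i • res _ hW (pullSec π F (e i)) = n) :
    q.app W n = ∑ i, c i • sig q e hW i := by
  rw [← h, map_sum]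
  exact Finset.sum_congr rfl fun i _ => by rw [Scheme.Modules.Hom.app_smul, sig_eq]

theorem psi_add {W : P.Opens} (hW : W ≤ π ⁻¹ᵁ V) (n n' : Γ((Scheme.Modules.pullback π).obj F, W)) :
    psi q d he hW (n + n') = psi q d he hW n + psi q d he hW n' := by
  rw [psi_eq d he hW (c := fun i => coef he hW n i + coef he hW n' i)
    (by simp only [add_smul, Finset.sum_add_distrib, sum_coef]), psi, psi, ← Finset.sum_add_distrib]
  exact Finset.sum_congr rfl fun i _ => by rw [map_add, tmulSec_add_left]

theorem psi_smul {W : P.Opens} (hW : W ≤ π ⁻¹ᵁ V) (r : Γ(P, W))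
    (n : Γ((Scheme.Modules.pullback π).obj F, W)) :
    psi q d he hW (r • n) = r • psi q d he hW n + tmulSec (d.app W r) (q.app W n) := by
  rw [psi_eq d he hW (c := fun i => r * coef he hW n i)
    (by simp only [mul_smul, ← Finset.smul_sum, sum_coef]), q_eq hW (sum_coef he hW n), psi,
    Finset.smul_sum, ← tmulLin_apply (d.app W r), map_sum, ← Finset.sum_add_distrib]
  exact Finset.sum_congr rfl fun i _ => by
    rw [Groth.OmegaSheaf.der_mul, tmulSec_add_left, tmulSec_smul_left, tmulSec_smul_left,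
      map_smul, tmulLin_apply]

theorem res_psi {W W' : P.Opens} (hW : W ≤ π ⁻¹ᵁ V) (h : W' ≤ W)
    (n : Γ((Scheme.Modules.pullback π).obj F, W)) :
    res _ h (psi q d he hW n) = psi q d he (h.trans hW) (res _ h n) := by
  rw [psi_eq d he (h.trans hW) (c := fun i => resX P h (coef he hW n i)) (by
      conv_rhs => rw [← sum_coef he hW n]
      rw [res_sum]
      exact Finset.sum_congr rfl fun i _ => by rw [res_smul, res_res]), psi, res_sum]
  exact Finset.sum_congr rfl fun i _ => by
    rw [res_tmulSec, sig, sig, res_res]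
    congr 1
    exact (Groth.OmegaSheaf.der_res d h _).symm

theorem psi_compat {V' : S.Opens} {m' : ℕ} {e' : Fin m' → Γ(F, V')} (he' : Basis' F V' e')
    {W : P.Opens} (hW : W ≤ π ⁻¹ᵁ V) (hW' : W ≤ π ⁻¹ᵁ V')
    (n : Γ((Scheme.Modules.pullback π).obj F, W)) :
    psi q d he hW n = psi q d he' hW' n := by
  have hT : W ≤ π ⁻¹ᵁ (V ⊓ V') := fun z hz => ⟨hW hz, hW' hz⟩
  choose a ha using fun i => (he' (V ⊓ V') inf_le_right).2 (res F inf_le_left (e i))
  have hpe : ∀ i, res _ hW (pullSec π F (e i)) =
      ∑ l, π.appLE (V ⊓ V') W hT (a i l) • res _ hW' (pullSec π F (e' l)) := fun i => by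
    have h1 : res _ hW (pullSec π F (e i)) = res _ hT (pullSec π F (res F inf_le_left (e i))) := by
      rw [← res_pullSec, res_res]
    rw [h1, ← ha i,
      show pullSec π F (∑ l, a i l • res F (inf_le_right : V ⊓ V' ≤ V') (e' l)) =
        ∑ l, pullSec π F (a i l • res F (inf_le_right : V ⊓ V' ≤ V') (e' l)) from map_sum _ _ _,
      res_sum]
    refine Finset.sum_congr rfl fun l _ => ?_
    rw [pullSec_smul, res_smul, ← res_pullSec, res_res]
    rfl
  rw [psi_eq d he' hW' (c := fun l => ∑ i, coef he hW n i * π.appLE (V ⊓ V') W hT (a i l)) (by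
    conv_rhs => rw [← sum_coef he hW n]
    simp only [hpe, Finset.smul_sum, Finset.sum_smul, mul_smul]
    exact Finset.sum_comm)]
  have hsig : ∀ i, sig q e hW i = ∑ l, π.appLE (V ⊓ V') W hT (a i l) • sig q e' hW' l := fun i => by
    rw [sig_eq, hpe, map_sum]
    exact Finset.sum_congr rfl fun l _ => by rw [Scheme.Modules.Hom.app_smul, sig_eq]
  have hd' : ∀ l, d.app W (∑ i, coef he hW n i * π.appLE (V ⊓ V') W hT (a i l)) =
      ∑ i, π.appLE (V ⊓ V') W hT (a i l) • d.app W (coef he hW n i) := fun l => by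
    rw [map_sum]
    exact Finset.sum_congr rfl fun i _ => by
      rw [Groth.OmegaSheaf.der_mul, Groth.OmegaSheaf.der_appLE, smul_zero, zero_add]
  simp only [psi, hsig, hd', ← tmulLin_apply, map_sum, LinearMap.sum_apply, map_smul,
    LinearMap.smul_apply]
  exact Finset.sum_comm

variable {d}

theorem bijective_psi_chart (hPB : KRR.IsProjBundle π F O1 q) (hd : OmegaSh.IsUniversal d)
    (hV : IsAffineOpen V) (j : Fin m) :
    Function.Bijective fun k : Γ(kernel q, chart q e j) =>
      psi q d he (chart_le (q := q) (e := e) (j := j)) ((kernel.ι q).app _ k) := by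
  classical
  obtain ⟨hD, hb⟩ := isAffineOpen_and_bijective (j := j) he hPB hV
  let D := chart q e j
  let hDV : D ≤ π ⁻¹ᵁ V := chart_le
  let g : Γ(O1, D) := res O1 hDV ((linData q).app V (e j))
  have hg : Gen O1 D g := (linData q).gen_genLoc V (e j)
  let c : Groth.OmegaSheaf.Chart π := ⟨D, V, hD, hV, hDV⟩
  have hsig : ∀ i, sig q e hDV i = coords q e j i • g := fun i =>
    ((linData q).ratio_smul V (e j) (e i)).symm
  have hy : Function.Bijective fun y : Γ(Ω, D) => tmulSec y g := by
    have h := Groth.Ega2Proj.tmulSec_bijective (M := Ω) (le_refl D) hg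
    simpa only [res_self] using h
  have hcomb : Function.Bijective fun a : {i : Fin m // i ≠ j} → Γ(P, D) =>
      ∑ i, a i • d.app D (coords q e j i.1) := by
    letI := Groth.OmegaSheaf.chartAlg π c.e
    have h := (Groth.OmegaSheaf.universalChartEquiv hd c).bijective.comp
      (bijective_sum_D (B := Γ(S, V)) (chartHom q e j) hb fun b => chartHom_C b)
    have e1 : (fun a : {i : Fin m // i ≠ j} → Γ(P, D) => ∑ i, a i • d.app D (coords q e j i.1)) =
        (Groth.OmegaSheaf.universalChartEquiv hd c) ∘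
          fun a => ∑ i, a i • KaehlerDifferential.D Γ(S, V) Γ(P, D) (chartHom q e j (MvPolynomial.X i)) := by
      funext a
      simp only [Function.comp_apply]
      refine Eq.trans ?_ (map_sum (Groth.OmegaSheaf.universalChartEquiv hd c) _ _).symm
      refine Finset.sum_congr rfl fun i _ => ?_
      refine Eq.trans ?_ (map_smul (Groth.OmegaSheaf.universalChartEquiv hd c) _ _).symm
      rw [chartHom_X]
      exact congrArg (a i • ·) (Groth.OmegaSheaf.universalChartEquiv_D hd c _).symm
    rw [e1]
    exact h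
  have hsplit : ∀ a : Fin m → Γ(P, D), ∑ i, a i • d.app D (coords q e j i) =
      ∑ i : {i : Fin m // i ≠ j}, a i.1 • d.app D (coords q e j i.1) := fun a => by
    rw [← Finset.add_sum_erase Finset.univ _ (Finset.mem_univ j), coords_self, der_one, smul_zero,
      zero_add]
    exact Finset.sum_subtype _ (fun i => by simp) fun i => a i • d.app D (coords q e j i)
  have hq : ∀ a : Fin m → Γ(P, D),
      q.app D (∑ i, a i • res _ hDV (pullSec π F (e i))) = (∑ i, a i * coords q e j i) • g := fun a => by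
    rw [q_eq hDV rfl, Finset.sum_smul]
    exact Finset.sum_congr rfl fun i _ => by rw [hsig, mul_smul]
  have hpsi : ∀ a : Fin m → Γ(P, D), ∑ i, a i * coords q e j i = 0 →
      psi q d he hDV (∑ i, a i • res _ hDV (pullSec π F (e i))) =
        tmulSec (-∑ i : {i : Fin m // i ≠ j}, a i.1 • d.app D (coords q e j i.1)) g := fun a ha => by
    have h0 : ∑ i, coords q e j i • d.app D (a i) = -∑ i, a i • d.app D (coords q e j i) := by
      have h := congrArg (d.app D) ha
      rw [map_sum, map_zero] at h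
      simp only [Groth.OmegaSheaf.der_mul, Finset.sum_add_distrib] at h
      exact eq_neg_of_add_eq_zero_right h
    rw [psi_eq d he hDV rfl, ← hsplit, ← h0]
    simp only [hsig, ← tmulLin_apply, map_smul, map_sum, LinearMap.sum_apply, LinearMap.smul_apply]
  constructor
  · intro k k' h
    have hk : ∀ k : Γ(kernel q, D), ∑ i, coef he hDV ((kernel.ι q).app D k) i * coords q e j i = 0 :=
      fun k => by
        refine hg.smul_inj le_rfl ?_
        rw [res_self, ← hq, sum_coef, zero_smul]
        exact congr(($(kernel.condition q)).app D k)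
    have e1 : ∀ k : Γ(kernel q, D), psi q d he hDV ((kernel.ι q).app D k) =
        tmulSec (-∑ i : {i : Fin m // i ≠ j},
          coef he hDV ((kernel.ι q).app D k) i.1 • d.app D (coords q e j i.1)) g := fun k => by
      rw [← hpsi _ (hk k), sum_coef]
    have h2 := neg_injective (hy.1 ((e1 k).symm.trans (h.trans (e1 k'))))
    have h3 := hcomb.1 h2
    have h4 : coef he hDV ((kernel.ι q).app D k) = coef he hDV ((kernel.ι q).app D k') := by
      funext i
      by_cases hi : i = j
      · subst hi
        have ha := hk k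
        have hb := hk k'
        rw [← Finset.add_sum_erase Finset.univ _ (Finset.mem_univ i), coords_self, mul_one] at ha hb
        have hs : ∑ l ∈ Finset.univ.erase i, coef he hDV ((kernel.ι q).app D k) l * coords q e i l =
            ∑ l ∈ Finset.univ.erase i, coef he hDV ((kernel.ι q).app D k') l * coords q e i l :=
          Finset.sum_congr rfl fun l hl => by
            rw [congrFun h3 ⟨l, (Finset.mem_erase.1 hl).1⟩]
        rw [hs] at ha
        exact (add_right_cancel (ha.trans hb.symm))
      · exact congrFun h3 ⟨i, hi⟩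
    apply Groth.QCohMod.app_injective_of_mono (kernel.ι q) D
    rw [← sum_coef he hDV ((kernel.ι q).app D k), h4, sum_coef]
  · intro y
    obtain ⟨w, rfl⟩ := hy.2 y
    obtain ⟨b, hb'⟩ := hcomb.2 (-w)
    let b' : Fin m → Γ(P, D) := fun i => if h : i = j then
      -∑ l : {l : Fin m // l ≠ j}, b l * coords q e j l.1 else b ⟨i, h⟩
    have hb1 : ∀ l : {l : Fin m // l ≠ j}, b' l.1 = b l := fun l => dif_neg l.2
    have hb0 : ∑ i, b' i * coords q e j i = 0 := by
      rw [← Finset.add_sum_erase Finset.univ _ (Finset.mem_univ j), coords_self, mul_one,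
        show b' j = -∑ l : {l : Fin m // l ≠ j}, b l * coords q e j l.1 from dif_pos rfl,
        Finset.sum_subtype (Finset.univ.erase j) (p := (· ≠ j)) (fun i => by simp)
          (fun i => b' i * coords q e j i)]
      simp only [hb1]
      exact neg_add_cancel _
    obtain ⟨k, hk⟩ := Groth.QCohMod.exists_app_eq_of_mono_exact
      (S := ShortComplex.mk _ _ (kernel.condition q))
      (ShortComplex.exact_of_f_is_kernel _ (kernelIsKernel q)) D
      (∑ i, b' i • res _ hDV (pullSec π F (e i))) ((hq b').trans (by rw [hb0, zero_smul]))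
    refine ⟨k, ?_⟩
    refine (congrArg (psi q d he hDV) hk).trans ((hpsi b' hb0).trans ?_)
    simp only [hb1]
    rw [show ∑ i : {i : Fin m // i ≠ j}, b i • d.app D (coords q e j i.1) = -w from hb', neg_neg]

theorem exists_mem_chart {m : ℕ} {e : Fin m → Γ(F, V)} (he : Basis' F V e)
    (hPB : KRR.IsProjBundle π F O1 q) (z : P) (hz : z ∈ π ⁻¹ᵁ V) : ∃ j, z ∈ chart q e j := by
  haveI := hPB.epi
  obtain ⟨U, -, f, hf⟩ := exists_mem_genLoc (isInvertible_O1 hPB) q z
  obtain ⟨c, hc⟩ := (he (U ⊓ V) inf_le_right).2 (res F inf_le_left f)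
  have hzU : π z ∈ U := (linData q).genLoc_le U f hf
  let W : P.Opens := (linData q).genLoc U f ⊓ π ⁻¹ᵁ (U ⊓ V)
  have hW : W ≤ π ⁻¹ᵁ V := fun y hy => hy.2.2
  have hW' : W ≤ π ⁻¹ᵁ (U ⊓ V) := inf_le_right
  have hWU : W ≤ π ⁻¹ᵁ U := inf_le_left.trans ((linData q).genLoc_le U f)
  have hgen : Gen O1 W (res O1 hWU ((linData q).app U f)) := by
    have := ((linData q).gen_genLoc U f).res (inf_le_left : W ≤ _)
    rwa [res_res] at this
  choose a ha using fun i => hgen.exists_coeff le_rfl (sig q e hW i)
  simp only [res_self] at ha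
  have h1 : res O1 hWU ((linData q).app U f) =
      (∑ i, π.appLE (U ⊓ V) W hW' (c i) * a i) •
        res O1 hWU ((linData q).app U f) := by
    rw [Finset.sum_smul]
    simp only [mul_smul, ← ha]
    have h2 : res O1 hWU ((linData q).app U f) =
        res O1 hW' ((linData q).app (U ⊓ V) (res F inf_le_left f)) := by
      rw [← (linData q).app_res U (U ⊓ V) inf_le_left, res_res]
    rw [h2, ← hc, map_sum, res_sum]
    refine Finset.sum_congr rfl fun i _ => ?_
    rw [(linData q).app_smul, res_smul, ← (linData q).app_res V (U ⊓ V) inf_le_right, res_res]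
    rfl
  have h3 : ∑ i, π.appLE (U ⊓ V) W hW' (c i) * a i = 1 :=
    hgen.smul_inj le_rfl (by rw [res_self, one_smul]; exact h1.symm)
  by_contra hne
  simp only [not_exists] at hne
  have hzW : z ∈ W := ⟨hf, hzU, hz⟩
  have h4 : ∀ i, P.presheaf.germ W z hzW (π.appLE (U ⊓ V) W hW' (c i) * a i) ∈
      nonunits (P.presheaf.stalk z) := fun i hu => hne i (by
    rw [map_mul, IsUnit.mul_iff] at hu
    have hzb : z ∈ P.basicOpen (a i) := (P.mem_basicOpen (a i) z hzW).2 hu.2
    refine ((linData q).le_genLoc ((P.basicOpen_le (a i)).trans hW) ?_) hzb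
    have h5 := congrArg (res O1 (P.basicOpen_le (a i))) (ha i)
    rw [sig, res_res, res_smul] at h5
    rw [h5]
    exact (hgen.res _).smul_unit (RingedSpace.isUnit_res_basicOpen _ (a i)))
  have h6 : P.presheaf.germ W z hzW (∑ i, π.appLE (U ⊓ V) W hW' (c i) * a i) ∈
      nonunits (P.presheaf.stalk z) := by
    rw [map_sum]
    refine Finset.sum_induction _ (· ∈ nonunits _) (fun _ _ => IsLocalRing.nonunits_add) ?_
      fun i _ => h4 i
    simp [nonunits]
  rw [h3, map_one] at h6
  exact h6 isUnit_one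

/-- `Ω ⊗ O(1)` is the kernel of the universal quotient. -/
theorem nonempty_iso_kernel (hF : FlatMod.IsFinLocFree F) (hPB : KRR.IsProjBundle π F O1 q)
    (hd : OmegaSh.IsUniversal d) : Nonempty (CohB1.tensorMod Ω O1 ≅ kernel q) := by
  choose V mm ee hV hxV hee using fun x : S => Groth.LocFree.exists_affine_basis hF x
  haveI : F.IsQuasicoherent := Groth.KTheory.LocFree.isQCoh hF
  haveI : O1.IsQuasicoherent :=
    Groth.KTheory.LocFree.isQCoh (Groth.LocFree.isFinLocFree_of_rank hPB.invertible)
  haveI : Ω.IsQuasicoherent := Groth.OmegaSheaf.isQCoh_of_isUniversal hd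
  haveI := Groth.QCohMod.isQCoh_tensorMod (M := Ω) (N := O1)
  have hz : ∀ (W : P.Opens) (k : Γ(kernel q, W)), q.app W ((kernel.ι q).app W k) = 0 := fun W k =>
    congr(($(kernel.condition q)).app W k)
  obtain ⟨φ, hφ⟩ := exists_hom_of_cover (U := fun x : S => π ⁻¹ᵁ V x) (L := kernel q)
    (M := CohB1.tensorMod Ω O1)
    (eq_top_iff.2 fun z _ => Opens.mem_iSup.2 ⟨π z, hxV (π z)⟩)
    (fun x W hW k => psi q d (hee x) hW ((kernel.ι q).app W k))
    (fun x W hW k k' => by rw [map_add, psi_add])
    (fun x W hW r k => by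
      rw [Scheme.Modules.Hom.app_smul, psi_smul, hz, tmulSec_zero_right, add_zero])
    (fun x W W' hW h k => by rw [res_psi, app_res])
    (fun x y W hx hy k => psi_compat d (hee x) (hee y) hx hy _)
  haveI : IsIso φ := Groth.OmegaSheaf.isIso_of_affine_cover φ fun z => by
    obtain ⟨j, hj⟩ := exists_mem_chart (hee (π z)) hPB z (hxV (π z))
    refine ⟨chart q (ee (π z)) j, (isAffineOpen_and_bijective (j := j) (hee (π z)) hPB (hV (π z))).1,
      hj, ?_⟩
    have : (φ.app (chart q (ee (π z)) j) : _ → _) = fun k => psi q d (hee (π z))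
        (chart_le (q := q) (e := ee (π z)) (j := j)) ((kernel.ι q).app _ k) :=
      funext fun k => hφ (π z) _ chart_le k
    rw [this]
    exact bijective_psi_chart (hee (π z)) hPB hd (hV (π z)) j
  exact ⟨(asIso φ).symm⟩

end Groth.PBundle
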