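import Groth.Agent.PBundle.Quot
import Mathlib.AlgebraicGeometry.AffineScheme

/-!
# The charts of a projective bundle are affine spaces
-/

set_option autoImplicit false

universe u

open CategoryTheory CategoryTheory.Limits AlgebraicGeometry Opposite TopologicalSpace
open Groth.PicAux Groth.RelTw

noncomputable section

namespace Groth.PBundle

variable {S P : Scheme.{u}} {π : P ⟶ S} {F : S.Modules} {O1 : P.Modules}
  {q : (Scheme.Modules.pullback π).obj F ⟶ O1} {V : S.Opens} {m : ℕ}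
  {e : Fin m → Γ(F, V)} (he : Basis' F V e) {j : Fin m}

variable (π) in
theorem toSpecΓ_fromSpec (hV : IsAffineOpen V) {D : P.Opens} (hD : D ≤ π ⁻¹ᵁ V) :
    D.toSpecΓ ≫ Spec.map (π.appLE V D hD) ≫ hV.fromSpec = D.ι ≫ π := by
  rw [← Category.assoc, Scheme.Opens.toSpecΓ_SpecMap_appLE, Category.assoc,
    IsAffineOpen.toSpecΓ_fromSpec, Scheme.Hom.resLE_comp_ι]

theorem appLE_comp_ι {T : Scheme.{u}} {D : P.Opens} (h' : T ⟶ D.toScheme)
    (hh : (⊤ : T.Opens) ≤ (h' ≫ D.ι) ⁻¹ᵁ D) (r : Γ(P, D)) :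
    (h' ≫ D.ι).appLE D ⊤ hh r = h'.appTop (D.topIso.inv r) := by
  have e1 : D.ι.appLE D ⊤ (by simp) = D.topIso.inv := by
    rw [Scheme.Opens.ι_appLE]
    rfl
  have h := Scheme.Hom.appLE_comp_appLE h' D.ι D ⊤ ⊤ (by simp) le_top
  rw [e1] at h
  exact (congr(($h).hom r)).symm.trans (by rw [Scheme.Hom.appTop, Scheme.Hom.app_eq_appLE]; rfl)

theorem fromSpec_appLE_self (hV : IsAffineOpen V) (hh : (⊤ : (Spec Γ(S, V)).Opens) ≤ hV.fromSpec ⁻¹ᵁ V) :
    hV.fromSpec.appLE V ⊤ hh = (Scheme.ΓSpecIso Γ(S, V)).inv := by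
  rw [Scheme.Hom.appLE, IsAffineOpen.fromSpec_app_self, Category.assoc, ← Functor.map_comp]
  exact (congrArg ((Scheme.ΓSpecIso Γ(S, V)).inv ≫ ·) ((Spec Γ(S, V)).presheaf.map_id (op ⊤))).trans
    (Category.comp_id _)

variable (q e j) in
/-- The ring map of a chart. -/
def chartHom : MvPolynomial {i : Fin m // i ≠ j} Γ(S, V) →+* Γ(P, chart q e j) :=
  MvPolynomial.eval₂Hom (π.appLE V (chart q e j) chart_le).hom fun i => coords q e j i.1

theorem chartHom_C (b : Γ(S, V)) :
    chartHom q e j (MvPolynomial.C b) = π.appLE V (chart q e j) chart_le b :=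
  MvPolynomial.eval₂Hom_C _ _ b

theorem chartHom_X (i : {i : Fin m // i ≠ j}) : chartHom q e j (MvPolynomial.X i) = coords q e j i.1 :=
  MvPolynomial.eval₂Hom_X' _ _ i

include he in
theorem isAffineOpen_and_bijective (hPB : KRR.IsProjBundle π F O1 q) (hV : IsAffineOpen V) :
    IsAffineOpen (chart q e j) ∧ Function.Bijective (chartHom q e j) := by
  classical
  let B : CommRingCat.{u} := CommRingCat.of (MvPolynomial {i : Fin m // i ≠ j} Γ(S, V))
  let T : Scheme.{u} := Spec B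
  let φ : B ⟶ Γ(P, chart q e j) := CommRingCat.ofHom (chartHom q e j)
  let cC : Γ(S, V) ⟶ B := CommRingCat.ofHom MvPolynomial.C
  let g : T ⟶ S := Spec.map cC ≫ hV.fromSpec
  let ι := (chart q e j).ι
  let ρ : (chart q e j).toScheme ⟶ T := (chart q e j).toSpecΓ ≫ Spec.map φ
  have hCφ : cC ≫ φ = π.appLE V (chart q e j) chart_le := CommRingCat.hom_ext (RingHom.ext chartHom_C)
  have hρg : ρ ≫ g = ι ≫ π := by
    simp only [ρ, g, Category.assoc, ← Spec.map_comp_assoc, hCφ]
    exact toSpecΓ_fromSpec π hV chart_le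
  have hg : (⊤ : T.Opens) ≤ g ⁻¹ᵁ V := fun z _ => by
    change (Spec.map cC) z ∈ hV.fromSpec ⁻¹ᵁ V
    rw [hV.fromSpec_preimage_self]
    trivial
  let co : Fin m → B := fun i =>
    if h : i = j then (1 : MvPolynomial _ Γ(S, V)) else MvPolynomial.X ⟨i, h⟩
  have hco : ∀ i, φ (co i) = coords q e j i := fun i => by
    simp only [co]
    split_ifs with h
    · subst h
      exact (map_one (chartHom q e i)).trans coords_self.symm
    · exact chartHom_X ⟨i, h⟩
  obtain ⟨h, hD, hc, hcoord⟩ := exists_of_coords (j := j) he hPB hg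
    (t := fun i => (Scheme.ΓSpecIso B).inv (co i))
    ((congrArg (Scheme.ΓSpecIso B).inv (dif_pos rfl)).trans (map_one (Scheme.ΓSpecIso B).inv.hom))
  have hrange : Set.range h ⊆ Set.range ι := by
    rintro _ ⟨z, rfl⟩
    rw [Scheme.Opens.range_ι]
    exact hD (trivial : z ∈ (⊤ : T.Opens))
  let h' : T ⟶ (chart q e j).toScheme := IsOpenImmersion.lift ι h hrange
  have hfac : h' ≫ ι = h := IsOpenImmersion.lift_fac ι h hrange
  have hρtop : ∀ x : B, ρ.appTop ((Scheme.ΓSpecIso B).inv x) = (chart q e j).topIso.inv (φ x) := fun x => by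
    have h1 : (Scheme.ΓSpecIso B).inv ≫ ρ.appTop = φ ≫ (chart q e j).topIso.inv := by
      simp only [ρ, Scheme.Hom.comp_appTop, ← Category.assoc]
      rw [← Scheme.ΓSpecIso_inv_naturality, Category.assoc, Scheme.Opens.toSpecΓ_appTop,
        Iso.inv_hom_id_assoc]
    exact congr(($h1).hom x)
  have hsec : h' ≫ ρ = 𝟙 T := by
    refine ext_of_isAffine ?_
    rw [← cancel_epi (Scheme.ΓSpecIso B).inv]
    have hh : (⊤ : T.Opens) ≤ (h' ≫ ι) ⁻¹ᵁ chart q e j := by rw [hfac]; exact hD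
    have e0 : ∀ r, h'.appTop ((chart q e j).topIso.inv r) = h.appLE (chart q e j) ⊤ hD r := fun r => by
      rw [← appLE_comp_ι h' hh r]
      simp only [ι, show h' ≫ (chart q e j).ι = h from hfac]
    refine CommRingCat.hom_ext (MvPolynomial.ringHom_ext (fun b => ?_) fun i => ?_)
    · change h'.appTop (ρ.appTop ((Scheme.ΓSpecIso B).inv (cC b))) = (Scheme.ΓSpecIso B).inv (cC b)
      rw [hρtop, e0, show φ (cC b) = π.appLE V (chart q e j) chart_le b from chartHom_C b]
      have h1 := Scheme.Hom.appLE_comp_appLE h π V (chart q e j) ⊤ chart_le hD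
      refine (congr(($h1).hom b)).trans ?_
      have h2 : (h ≫ π).appLE V ⊤ (hD.trans (h.preimage_mono chart_le)) = g.appLE V ⊤ hg := by
        simp only [hc]
      rw [h2]
      have h3 := Scheme.Hom.appLE_comp_appLE (Spec.map cC) hV.fromSpec V ⊤ ⊤
        (by rw [hV.fromSpec_preimage_self]) le_top
      rw [fromSpec_appLE_self hV] at h3
      refine (congr(($h3).hom b)).symm.trans ?_
      have h4 : (Spec.map cC).appLE ⊤ ⊤ le_top = (Spec.map cC).appTop :=
        (Scheme.Hom.app_eq_appLE (Spec.map cC)).symm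
      rw [h4]
      exact congr(($(Scheme.ΓSpecIso_inv_naturality cC)).hom b).symm
    · change h'.appTop (ρ.appTop ((Scheme.ΓSpecIso B).inv (MvPolynomial.X i))) =
        (Scheme.ΓSpecIso B).inv (MvPolynomial.X i)
      rw [hρtop, e0]
      have h1 := hcoord i.1
      rw [← hco, show co i.1 = MvPolynomial.X i from dif_neg i.2] at h1
      exact h1
  have hret : ρ ≫ h' = 𝟙 _ := by
    rw [← cancel_mono ι, Category.assoc, hfac, Category.id_comp]
    have hgD : (⊤ : (chart q e j).toScheme.Opens) ≤ (ι ≫ π) ⁻¹ᵁ V := fun z _ =>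
      (chart_le : chart q e j ≤ π ⁻¹ᵁ V) z.2
    refine eq_of_coords (j := j) he hPB (g := ι ≫ π) hgD (by rw [Category.assoc, hc, hρg]) rfl
      (fun z _ => hD (trivial : ρ z ∈ (⊤ : T.Opens))) (fun z _ => z.2) fun i => ?_
    have h1 := Scheme.Hom.appLE_comp_appLE ρ h (chart q e j) ⊤ ⊤ hD le_top
    refine (congr(($h1).hom (coords q e j i))).symm.trans ?_
    change ρ.appLE ⊤ ⊤ _ (h.appLE (chart q e j) ⊤ hD (coords q e j i)) = _
    rw [hcoord, ← show ρ.appTop = ρ.appLE ⊤ ⊤ le_top from Scheme.Hom.app_eq_appLE ρ, hρtop, hco,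
      Scheme.Opens.ι_appLE]
    rfl
  haveI : IsIso ρ := ⟨h', hret, hsec⟩
  have haff : IsAffine (chart q e j).toScheme := .of_isIso ρ
  refine ⟨haff, ?_⟩
  haveI : IsIso ρ.appTop := inferInstanceAs (IsIso (ρ.app ⊤))
  have hb : Function.Bijective fun x : B => ρ.appTop ((Scheme.ΓSpecIso B).inv x) :=
    (ConcreteCategory.bijective_of_isIso ρ.appTop).comp
      (ConcreteCategory.bijective_of_isIso (Scheme.ΓSpecIso B).inv)
  simp only [hρtop] at hb
  exact (Function.Bijective.of_comp_iff'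
    (ConcreteCategory.bijective_of_isIso (chart q e j).topIso.inv) _).1 hb

end Groth.PBundle
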