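import Groth.Prelude.Def_KRR
import Groth.Agent.RelTwist.ProjUnivD
import Groth.Agent.PicAux.FreeBasis
import Groth.Agent.LocFree.Rank

/-!
# Projective bundles given by the universal property: morphisms with given coordinates
-/

set_option autoImplicit false

universe u

open CategoryTheory CategoryTheory.Limits AlgebraicGeometry Opposite TopologicalSpace
open Groth.PicAux Groth.RelTw

noncomputable section

namespace Groth.PBundle

variable {S P T : Scheme.{u}} {π : P ⟶ S} {F : S.Modules} {O1 : P.Modules}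
  {q : (Scheme.Modules.pullback π).obj F ⟶ O1} {V : S.Opens} {m : ℕ}
  {e : Fin m → Γ(F, V)} (he : Basis' F V e) {j : Fin m}

theorem isInvertible_O1 (hPB : KRR.IsProjBundle π F O1 q) : PicF.IsInvertible O1 :=
  Groth.LocFree.isInvertible_iff_ofRank_one.2 hPB.invertible

theorem ofRank_one_structure (T : Scheme.{u}) :
    FlatMod.IsFinLocFreeOfRank 1 (Coh.structureModule T) :=
  Groth.LocFree.isInvertible_iff_ofRank_one.1
    ((isInvertible_iff_exists_gen _).2 fun x => ⟨⊤, oneSec T ⊤, trivial, gen_oneSec ⊤⟩)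

include he in
/-- Morphisms out of an inverse image agree if they agree on a basis. -/
theorem hom_ext_basis {g : T ⟶ S} (hg : (⊤ : T.Opens) ≤ g ⁻¹ᵁ V) {M : T.Modules}
    {a b : (Scheme.Modules.pullback g).obj F ⟶ M}
    (h : ∀ i, res M hg (a.app (g ⁻¹ᵁ V) (pullSec g F (e i))) =
      res M hg (b.app (g ⁻¹ᵁ V) (pullSec g F (e i)))) : a = b := by
  obtain ⟨d, hd⟩ := ((he.pull g).res' hg).exists_split
  have key : ∀ i, d.s i ≫ a = d.s i ≫ b := fun i => hom_structure_ext (by
    change a.app ⊤ ((d.s i).app ⊤ (oneSec T ⊤)) = b.app ⊤ ((d.s i).app ⊤ (oneSec T ⊤))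
    rw [hd, app_res, app_res]
    exact h i)
  rw [← Category.id_comp a, ← Category.id_comp b, ← d.total, Preadditive.sum_comp,
    Preadditive.sum_comp]
  exact Finset.sum_congr rfl fun i _ => by rw [Category.assoc, Category.assoc, key i]

include he in
/-- The quotient with prescribed coordinates. -/
theorem exists_quot {g : T ⟶ S} (hg : (⊤ : T.Opens) ≤ g ⁻¹ᵁ V) {t : Fin m → Γ(T, ⊤)}
    (htj : t j = 1) :
    ∃ s : (Scheme.Modules.pullback g).obj F ⟶ Coh.structureModule T, Epi s ∧
      ∀ i, res _ hg ((linData s).app V (e i)) = t i • oneSec T ⊤ := by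
  obtain ⟨d, hd⟩ := ((he.pull g).res' hg).exists_split
  let s : (Scheme.Modules.pullback g).obj F ⟶ Coh.structureModule T :=
    ∑ i, d.p i ≫ homOfSection (t i • oneSec T ⊤)
  have hs : ∀ i, d.s i ≫ s = homOfSection (t i • oneSec T ⊤) := fun i => by
    simp only [s, Preadditive.comp_sum, ← Category.assoc]
    rw [Finset.sum_eq_single i (fun l _ hl => by rw [d.off i l (Ne.symm hl), zero_comp]) (by simp),
      d.diag i, Category.id_comp]
  have hj : d.s j ≫ s = 𝟙 _ := hom_structure_ext (by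
    rw [hs, homOfSection_one, htj, one_smul]
    rfl)
  haveI : IsSplitEpi s := IsSplitEpi.mk' ⟨d.s j, hj⟩
  refine ⟨s, inferInstance, fun i => ?_⟩
  rw [linData_app, ← app_res, ← hd i]
  exact (congr(($(hs i)).app ⊤ (oneSec T ⊤))).trans (homOfSection_one _)

/-- The condition of the universal property, on sections. -/
theorem linData_app_of_cond {g : T ⟶ S} {L : T.Modules}
    {s : (Scheme.Modules.pullback g).obj F ⟶ L} {h : T ⟶ P} (hc : h ≫ π = g)
    (τ : (Scheme.Modules.pullback h).obj O1 ≅ L)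
    (heq : (Scheme.Modules.pullbackCongr hc).inv.app F ≫ (Scheme.Modules.pullbackComp h π).inv.app F ≫
        (Scheme.Modules.pullback h).map q ≫ τ.hom = s)
    {W : T.Opens} (hW : W ≤ h ⁻¹ᵁ π ⁻¹ᵁ V) (hW' : W ≤ g ⁻¹ᵁ V) (x : Γ(F, V)) :
    res L hW' ((linData s).app V x) =
      τ.hom.app W (res _ hW (pullSec h O1 ((linData q).app V x))) := by
  subst hc
  rw [linData_app, ← heq,
    show (Scheme.Modules.pullbackCongr (rfl : h ≫ π = h ≫ π)).inv.app F = 𝟙 _ from rfl,
    Category.id_comp, app_res]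
  change res L hW' (τ.hom.app (h ⁻¹ᵁ π ⁻¹ᵁ V) (((Scheme.Modules.pullback h).map q).app (h ⁻¹ᵁ π ⁻¹ᵁ V)
    (((Scheme.Modules.pullbackComp h π).inv.app F).app (h ⁻¹ᵁ π ⁻¹ᵁ V) (pullSec (h ≫ π) F x)))) = _
  rw [pullbackComp_inv_pullSec, pullSec_map, linData_app]
  rfl

variable (q e j) in
/-- The chart where the `j`th coordinate generates. -/
abbrev chart : P.Opens := (linData q).genLoc V (e j)

variable (q e j) in
/-- The coordinates on the chart. -/
abbrev coords (i : Fin m) : Γ(P, chart q e j) := (linData q).ratio V (e j) (e i)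

theorem chart_le : chart q e j ≤ π ⁻¹ᵁ V := (linData q).genLoc_le V (e j)

theorem coords_self : coords q e j j = 1 := (linData q).ratio_self V (e j)

include he in
/-- A morphism into the chart with the given coordinates satisfies the condition. -/
theorem cond_of_coords {g : T ⟶ S} (hg : (⊤ : T.Opens) ≤ g ⁻¹ᵁ V) {t : Fin m → Γ(T, ⊤)}
    {s : (Scheme.Modules.pullback g).obj F ⟶ Coh.structureModule T}
    (hs : ∀ i, res _ hg ((linData s).app V (e i)) = t i • oneSec T ⊤)
    {h : T ⟶ P} (hc : h ≫ π = g) (hD : (⊤ : T.Opens) ≤ h ⁻¹ᵁ chart q e j)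
    (hcoord : ∀ i, h.appLE (chart q e j) ⊤ hD (coords q e j i) = t i) :
    ∃ (hc : h ≫ π = g) (τ : (Scheme.Modules.pullback h).obj O1 ≅ Coh.structureModule T),
      (Scheme.Modules.pullbackCongr hc).inv.app F ≫ (Scheme.Modules.pullbackComp h π).inv.app F ≫
        (Scheme.Modules.pullback h).map q ≫ τ.hom = s := by
  subst hc
  let g₀ : Γ((Scheme.Modules.pullback h).obj O1, (⊤ : T.Opens)) :=
    res _ hD (pullSec h O1 (res O1 chart_le ((linData q).app V (e j))))
  have hgen : Gen _ (⊤ : T.Opens) g₀ := (((linData q).gen_genLoc V (e j)).pull h).res hD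
  haveI : IsIso (homOfSection g₀) := (isIso_hom_structure_iff _).2 (by rwa [homOfSection_one])
  have hτ : (asIso (homOfSection g₀)).inv.app ⊤ g₀ = oneSec T ⊤ :=
    (congrArg ((asIso (homOfSection g₀)).inv.app ⊤) (homOfSection_one g₀).symm).trans
      congr(($((asIso (homOfSection g₀)).hom_inv_id)).app ⊤ (oneSec T ⊤))
  refine ⟨rfl, (asIso (homOfSection g₀)).symm, hom_ext_basis he hg fun i => ?_⟩
  rw [← linData_app, ← linData_app, hs]
  rw [linData_app_of_cond rfl (asIso (homOfSection g₀)).symm rfl hg hg (e i)]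
  have hred : res _ hg (pullSec h O1 ((linData q).app V (e i))) = t i • g₀ := by
    have h1 : res _ (hD.trans (h.preimage_mono chart_le)) (pullSec h O1 ((linData q).app V (e i))) =
        res _ hD (pullSec h O1 (res O1 chart_le ((linData q).app V (e i)))) := by
      rw [← res_pullSec h O1 chart_le, res_res]
    refine h1.trans ?_
    rw [← (linData q).ratio_smul V (e j) (e i), pullSec_smul, res_smul]
    congr 1
    exact (congrArg _ rfl).trans (hcoord i)
  erw [hred]
  rw [Iso.symm_hom, Scheme.Modules.Hom.app_smul, hτ]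

include he in
/-- Morphisms into the chart are determined by their coordinates. -/
theorem eq_of_coords (hPB : KRR.IsProjBundle π F O1 q) {g : T ⟶ S} (hg : (⊤ : T.Opens) ≤ g ⁻¹ᵁ V)
    {h h' : T ⟶ P} (hc : h ≫ π = g) (hc' : h' ≫ π = g) (hD : (⊤ : T.Opens) ≤ h ⁻¹ᵁ chart q e j)
    (hD' : (⊤ : T.Opens) ≤ h' ⁻¹ᵁ chart q e j)
    (hcoord : ∀ i, h.appLE (chart q e j) ⊤ hD (coords q e j i) =
      h'.appLE (chart q e j) ⊤ hD' (coords q e j i)) : h = h' := by
  obtain ⟨s, hepi, hs⟩ := exists_quot (j := j) he hg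
    (t := fun i => h.appLE (chart q e j) ⊤ hD (coords q e j i)) (by rw [coords_self, map_one])
  exact (hPB.univ T g (Coh.structureModule T) (ofRank_one_structure T) s hepi).unique
    (cond_of_coords he hg hs hc hD fun _ => rfl)
    (cond_of_coords he hg hs hc' hD' fun i => (hcoord i).symm)

include he in
/-- Every tuple of coordinates is taken by a morphism into the chart. -/
theorem exists_of_coords (hPB : KRR.IsProjBundle π F O1 q) {g : T ⟶ S}
    (hg : (⊤ : T.Opens) ≤ g ⁻¹ᵁ V) {t : Fin m → Γ(T, ⊤)} (htj : t j = 1) :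
    ∃ (h : T ⟶ P) (hD : (⊤ : T.Opens) ≤ h ⁻¹ᵁ chart q e j), h ≫ π = g ∧
      ∀ i, h.appLE (chart q e j) ⊤ hD (coords q e j i) = t i := by
  obtain ⟨s, hepi, hs⟩ := exists_quot (j := j) he hg htj
  obtain ⟨h, ⟨hc, τ, heq⟩, -⟩ := hPB.univ T g (Coh.structureModule T) (ofRank_one_structure T) s hepi
  subst hc
  have hσ : ∀ (W : T.Opens) (x : Fin m), res _ ((le_top : W ≤ ⊤).trans hg) ((linData s).app V (e x)) =
      resX T (le_top : W ≤ ⊤) (t x) • oneSec T W := fun W x => by
    rw [← res_res (h := hg) (h' := (le_top : W ≤ ⊤)), hs, res_smul, res_oneSec]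
  have hD : (⊤ : T.Opens) ≤ h ⁻¹ᵁ chart q e j := by
    intro z _
    obtain ⟨U, v, hzU, hv⟩ := (isInvertible_iff_exists_gen _).1 (isInvertible_O1 hPB) (h z)
    have hzV : z ∈ h ⁻¹ᵁ π ⁻¹ᵁ V := hg (trivial : z ∈ (⊤ : T.Opens))
    let W := U ⊓ π ⁻¹ᵁ V
    obtain ⟨c, hc⟩ := (hv.res (inf_le_left : W ≤ U)).exists_coeff le_rfl
      (res O1 (inf_le_right : W ≤ π ⁻¹ᵁ V) ((linData q).app V (e j)))
    rw [res_self] at hc
    have hzW : z ∈ h ⁻¹ᵁ W := ⟨hzU, hzV⟩
    have h1 := linData_app_of_cond rfl τ heq (W := h ⁻¹ᵁ W)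
      (h.preimage_mono (inf_le_right : W ≤ π ⁻¹ᵁ V)) (le_top.trans hg) (e j)
    rw [hσ (h ⁻¹ᵁ W) j, htj, map_one, one_smul, res_pullSec h O1 (inf_le_right : W ≤ π ⁻¹ᵁ V),
      hc, pullSec_smul, Scheme.Modules.Hom.app_smul] at h1
    have hu : IsUnit (h.app W c) := by
      have := congrArg toFun h1
      rw [toFun_oneSec, toFun_smul] at this
      exact IsUnit.of_mul_eq_one _ this.symm
    have hmem : h z ∈ P.basicOpen c := by
      have h2 : z ∈ T.basicOpen (h.app W c) := by rw [T.basicOpen_of_isUnit hu]; exact hzW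
      rwa [← Scheme.preimage_basicOpen] at h2
    refine ((linData q).le_genLoc ((P.basicOpen_le c).trans inf_le_right) ?_) hmem
    have h3 := congrArg (res O1 (P.basicOpen_le c)) hc
    rw [res_res, res_smul] at h3
    rw [h3]
    exact ((hv.res inf_le_left).res _).smul_unit (RingedSpace.isUnit_res_basicOpen _ c)
  refine ⟨h, hD, rfl, fun i => ?_⟩
  have key : ∀ x : Fin m, t x • oneSec T ⊤ =
      τ.hom.app ⊤ (res _ hD (pullSec h O1 (res O1 chart_le ((linData q).app V (e x))))) := fun x => by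
    rw [← hs x, linData_app_of_cond rfl τ heq (W := ⊤) (hD.trans (h.preimage_mono chart_le)) hg (e x),
      ← res_pullSec h O1 chart_le, res_res]
  have h2 := key i
  rw [← (linData q).ratio_smul V (e j) (e i), pullSec_smul, res_smul, Scheme.Modules.Hom.app_smul,
    ← key j, htj, one_smul] at h2
  refine ((congrArg toFun h2).trans ?_).symm.trans ((toFun_smul _ _).trans ?_)
  · rw [toFun_smul, toFun_oneSec, mul_one]
    rfl
  · rw [toFun_oneSec, mul_one]

end Groth.PBundle
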